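import Groth.Agent.FieldBertini.SepClosed
import Groth.Agent.GeomConn5.Irred
import Groth.Agent.S19477

/-!
# Geometric irreducibility over a generic linear section
-/

set_option autoImplicit false
set_option linter.style.haveILetI false
set_option backward.isDefEq.respectTransparency false
set_option backward.isDefEq.respectTransparency.types false

open IntermediateField CategoryTheory AlgebraicGeometry TensorProduct

namespace Groth.Agent.FieldBertini

universe u

theorem sepClosedIn_of_geometricallyIrreducible {k K : Type u} [Field k] [Field K] [Algebra k K]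
    [h : GeometricallyIrreducible (Spec.map (CommRingCat.ofHom (algebraMap k K)))] : SepClosedIn k K := by
  intro a ha
  let k' := IntermediateField.adjoin k {a}
  haveI : FiniteDimensional k k' := IntermediateField.adjoin.finiteDimensional ha.isIntegral
  refine GeomField.mem_range_of_irreducibleSpace_tensor (E := K) ha k' (AlgHom.id k k') ?_
  have h1 := (isPullback_SpecMap_of_isPushout _ _ _ _ (CommRingCat.isPushout_tensorProduct k K k'))
  exact h.geometrically_irreducibleSpace _ _ _ h1

/-- Separability transports along a compatible ring homomorphism. -/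
theorem isSeparable_map {L L' Ω Ω' : Type*} [Field L] [Field L'] [Field Ω] [Field Ω'] [Algebra L Ω] [Algebra L' Ω']
    (ψ : L →+* L') (τ : Ω →+* Ω') (h : ∀ l, τ (algebraMap L Ω l) = algebraMap L' Ω' (ψ l)) {a : Ω}
    (ha : IsSeparable L a) : IsSeparable L' (τ a) := by
  refine Polynomial.Separable.of_dvd (Polynomial.Separable.map (f := ψ) (ha : (minpoly L a).Separable)) (minpoly.dvd _ _ ?_)
  rw [Polynomial.aeval_def, Polynomial.eval₂_map, show (algebraMap L' Ω').comp ψ = τ.comp (algebraMap L Ω) from
    RingHom.ext fun l => (h l).symm, ← Polynomial.hom_eval₂, ← Polynomial.aeval_def, minpoly.aeval, map_zero]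

section Core

variable {F Ω : Type u} [Field F] [Field Ω] [Algebra F Ω]

theorem algebraicIndependent_pair {ξ t : Ω} (hind : AlgebraicIndependent F ![ξ, t]) {a b : F} (hab : a ≠ b) :
    AlgebraicIndependent F ![ξ + algebraMap F Ω b * t, ξ + algebraMap F Ω a * t] := by
  have hd : a - b ≠ 0 := sub_ne_zero.2 hab
  let s : MvPolynomial (Fin 2) F →ₐ[F] MvPolynomial (Fin 2) F :=
    MvPolynomial.aeval ![.X 0 + .C b * .X 1, .X 0 + .C a * .X 1]
  let r : MvPolynomial (Fin 2) F →ₐ[F] MvPolynomial (Fin 2) F :=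
    MvPolynomial.aeval ![.X 0 - .C (b * (a - b)⁻¹) * (.X 1 - .X 0), .C (a - b)⁻¹ * (.X 1 - .X 0)]
  have hrs : r.comp s = AlgHom.id F _ := by
    refine MvPolynomial.algHom_ext fun i => ?_
    fin_cases i
    · simp [r, s, map_mul]
      ring
    · have : (MvPolynomial.C (a - b) : MvPolynomial (Fin 2) F) * MvPolynomial.C (a - b)⁻¹ = 1 := by
        rw [← map_mul, mul_inv_cancel₀ hd, map_one]
      simp [r, s, map_mul]
      rw [map_sub] at this
      linear_combination (MvPolynomial.X 1 - MvPolynomial.X 0) * this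
  have hs : Function.Injective s := fun P Q h => by
    have := congrArg r h
    rwa [← AlgHom.comp_apply, ← AlgHom.comp_apply, hrs] at this
  rw [algebraicIndependent_iff_injective_aeval]
  have : (MvPolynomial.aeval ![ξ + algebraMap F Ω b * t, ξ + algebraMap F Ω a * t] : MvPolynomial (Fin 2) F →ₐ[F] Ω)
      = (MvPolynomial.aeval ![ξ, t]).comp s := by
    refine MvPolynomial.algHom_ext fun i => ?_
    fin_cases i <;> simp [s]
  rw [this]
  exact (algebraicIndependent_iff_injective_aeval.1 hind).comp hs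

theorem core [Algebra.EssFiniteType F Ω] (hF : SepClosedIn F Ω) (ξ t : Ω) (hind : AlgebraicIndependent F ![ξ, t])
    (H : Set F) (hH : H.Infinite) (τ : F → (Ω ≃+* Ω))
    (hτF : ∀ h ∈ H, ∀ f, τ h (algebraMap F Ω f) ∈ Set.range (algebraMap F Ω))
    (hτF' : ∀ h ∈ H, ∀ f, (τ h).symm (algebraMap F Ω f) ∈ Set.range (algebraMap F Ω))
    (hτξ : ∀ h ∈ H, τ h ξ = ξ + algebraMap F Ω h * t) :
    SepClosedIn (adjoin F {ξ}) Ω := by
  intro α hα
  let η : F → Ω := fun h => ξ + algebraMap F Ω h * t
  let E : (h : F) → IntermediateField (adjoin F {η h}) Ω := fun h => separableClosure _ Ω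
  let M₀ := adjoin F ({ξ, t} : Set Ω)
  have hηM : ∀ h, adjoin F {η h} ≤ M₀ := fun h => adjoin_le_iff.2 (Set.singleton_subset_iff.2
    (add_mem (subset_adjoin _ _ (by simp)) (mul_mem (M₀.algebraMap_mem h) (subset_adjoin _ _ (by simp)))))
  let G := separableClosure M₀ Ω
  let M : F → IntermediateField M₀ Ω := fun h => adjoin M₀ (E h : Set Ω)
  have hEG : ∀ h, M h ≤ G := fun h => adjoin_le_iff.2 fun e he => mem_separableClosure_iff.2
    (isSeparable_map (Subfield.inclusion (hηM h : (adjoin F {η h}).toSubfield ≤ M₀.toSubfield)) (RingHom.id Ω)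
      (fun _ => rfl) (mem_separableClosure_iff.1 he))
  haveI : Algebra.EssFiniteType M₀ Ω := Algebra.EssFiniteType.of_comp F M₀ Ω
  haveI : Algebra.IsSeparable M₀ G := separableClosure.isSeparable M₀ Ω
  haveI : FiniteDimensional M₀ G := S19477.finiteDimensional_of_isAlgebraic G
  haveI : Finite (IntermediateField M₀ G) :=
    Field.finite_intermediateField_of_exists_primitive_element M₀ G (Field.exists_primitive_element M₀ G)
  obtain ⟨a, ha, b, hb, hab, heq⟩ := hH.exists_ne_map_eq_of_mapsTo (Set.mapsTo_univ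
    (fun h => IntermediateField.restrict (hEG h)) _) Set.finite_univ
  have hM : M a = M b := by rw [← lift_restrict (hEG a), ← lift_restrict (hEG b), heq]
  -- the translate of `α` lies in `E a`
  have hτL : ∀ h ∈ H, ∀ l ∈ adjoin F {ξ}, τ h l ∈ adjoin F {η h} := fun h hh l hl => by
    induction hl using adjoin_induction with
    | mem x hx => rw [Set.mem_singleton_iff.1 hx, hτξ h hh]; exact mem_adjoin_simple_self _ _
    | algebraMap x => obtain ⟨y, hy⟩ := hτF h hh x; rw [← hy]; exact IntermediateField.algebraMap_mem _ y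
    | add x y _ _ hx hy => rw [map_add]; exact add_mem hx hy
    | inv x _ hx => rw [map_inv₀]; exact inv_mem hx
    | mul x y _ _ hx hy => rw [map_mul]; exact mul_mem hx hy
  have hαa : τ a α ∈ M a := subset_adjoin _ _ (mem_separableClosure_iff.2 (by
    let ψ : adjoin F {ξ} →+* adjoin F {η a} :=
      { toFun := fun l => ⟨τ a l, hτL a ha l l.2⟩
        map_one' := Subtype.ext (map_one (τ a))
        map_mul' := fun x y => Subtype.ext (map_mul (τ a) _ _)
        map_zero' := Subtype.ext (map_zero (τ a))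
        map_add' := fun x y => Subtype.ext (map_add (τ a) _ _) }
    exact isSeparable_map ψ (τ a).toRingHom (fun _ => rfl) hα))
  rw [hM] at hαa
  -- `η a` is transcendental over `E b`
  have htr : Transcendental (E b) (η a) := by
    have h1 : Transcendental (adjoin F {η b}) (η a) := by
      rw [IntermediateField.transcendental_adjoin_iff]
      have := (algebraicIndependent_pair hind hab).transcendental_adjoin (s := {0}) (i := 1) (by simp)
      rw [Set.image_singleton] at this
      exact this
    exact h1.extendScalars (E b)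
  haveI : IsScalarTower F (E b) Ω := IsScalarTower.of_algebraMap_eq fun _ => rfl
  let y : Fin 1 → Ω := fun _ => η a
  have hy : Set.range y = {η a} := Set.range_const
  have hyind : AlgebraicIndependent (E b) y := (algebraicIndependent_unique_type_iff).2 htr
  have hEb : SepClosedIn F (E b) := fun e he => by
    have hs : IsSeparable F (e : Ω) := by
      have := isSeparable_map (RingHom.id F) (E b).val.toRingHom
        (fun l => ((E b).val.restrictScalars F).commutes l) he
      exact this
    obtain ⟨f, hf⟩ := hF _ hs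
    exact ⟨f, Subtype.ext hf⟩
  -- so `M b` lies in `E b (η a)`
  have hfield : ∀ z ∈ M b, z ∈ adjoin (E b) (Set.range y) := by
    intro z hz
    rw [hy]
    have hba : algebraMap F Ω a - algebraMap F Ω b ≠ 0 :=
      sub_ne_zero.2 fun h => hab ((algebraMap F Ω).injective h)
    have hηa : η a ∈ adjoin (E b) {η a} := mem_adjoin_simple_self _ _
    have hηb : η b ∈ adjoin (E b) {η a} := (adjoin (E b) {η a}).algebraMap_mem
      (algebraMap (adjoin F {η b}) (E b) ⟨η b, mem_adjoin_simple_self _ _⟩)
    have hF' : ∀ f : F, algebraMap F Ω f ∈ adjoin (E b) {η a} := fun f =>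
      (adjoin (E b) {η a}).algebraMap_mem (algebraMap F (E b) f)
    have ht' : t ∈ adjoin (E b) {η a} := by
      rw [show t = (η a - η b) / (algebraMap F Ω a - algebraMap F Ω b) by
        rw [eq_div_iff hba]; simp only [η]; ring]
      exact div_mem (sub_mem hηa hηb) (sub_mem (hF' a) (hF' b))
    have hξ' : ξ ∈ adjoin (E b) {η a} := by
      rw [show ξ = η b - algebraMap F Ω b * t by simp only [η]; ring]
      exact sub_mem hηb (mul_mem (hF' b) ht')
    have hM₀ : M₀ ≤ (adjoin (E b) {η a}).restrictScalars F := adjoin_le_iff.2 fun w hw => by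
      rcases hw with rfl | rfl
      exacts [hξ', ht']
    induction hz using adjoin_induction with
    | mem x hx => exact (adjoin (E b) {η a}).algebraMap_mem (⟨x, hx⟩ : E b)
    | algebraMap x => exact hM₀ x.2
    | add x y _ _ hx hy => exact add_mem hx hy
    | inv x _ hx => exact inv_mem hx
    | mul x y _ _ hx hy => exact mul_mem hx hy
  have hsep : IsSeparable (adjoin F (Set.range y)) (τ a α) := by
    let ψ : adjoin F {ξ} →+* adjoin F (Set.range y) :=
      { toFun := fun l => ⟨τ a l, by rw [hy]; exact hτL a ha l l.2⟩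
        map_one' := Subtype.ext (map_one (τ a))
        map_mul' := fun x y => Subtype.ext (map_mul (τ a) _ _)
        map_zero' := Subtype.ext (map_zero (τ a))
        map_add' := fun x y => Subtype.ext (map_add (τ a) _ _) }
    exact isSeparable_map ψ (τ a).toRingHom (fun _ => rfl) hα
  have hres := mem_adjoin_range_of_isSeparable y hEb hyind (hfield _ hαa) hsep
  rw [hy] at hres
  -- translate back
  have hback : ∀ w ∈ adjoin F {η a}, (τ a).symm w ∈ adjoin F {ξ} := fun w hw => by
    induction hw using adjoin_induction with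
    | mem x hx =>
      rw [Set.mem_singleton_iff.1 hx, show η a = τ a ξ from (hτξ a ha).symm, RingEquiv.symm_apply_apply]
      exact mem_adjoin_simple_self _ _
    | algebraMap x => obtain ⟨y, hy⟩ := hτF' a ha x; rw [← hy]; exact IntermediateField.algebraMap_mem _ y
    | add x y _ _ hx hy => rw [map_add]; exact add_mem hx hy
    | inv x _ hx => rw [map_inv₀]; exact inv_mem hx
    | mul x y _ _ hx hy => rw [map_mul]; exact mul_mem hx hy
  have := hback _ hres
  rw [RingEquiv.symm_apply_apply] at this
  exact ⟨⟨α, this⟩, rfl⟩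

end Core

variable {k K : Type u} [Field k] [Field K] [Algebra k K] {n : ℕ}
  {Ω : Type u} [Field Ω] [Algebra (MvPolynomial (Fin n) K) Ω] [IsFractionRing (MvPolynomial (Fin n) K) Ω]
  [Algebra K Ω] [IsScalarTower K (MvPolynomial (Fin n) K) Ω] [Algebra k Ω] [IsScalarTower k K Ω]
  [IsScalarTower k (MvPolynomial (Fin n) K) Ω]

local notation "R" => MvPolynomial (Fin n) K

theorem algebraicIndependent_x (x : Fin n → Ω) (hx : x = fun i => algebraMap (MvPolynomial (Fin n) K) Ω (MvPolynomial.X i)) : AlgebraicIndependent K x := by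
  rw [hx, algebraicIndependent_iff_injective_aeval]
  have : (MvPolynomial.aeval (fun i => algebraMap (MvPolynomial (Fin n) K) Ω (MvPolynomial.X i)) : R →ₐ[K] Ω) =
      IsScalarTower.toAlgHom K (MvPolynomial (Fin n) K) Ω := MvPolynomial.algHom_ext fun i => by simp
  rw [this]
  exact IsFractionRing.injective (MvPolynomial (Fin n) K) Ω

theorem mem_adjoin_x (x : Fin n → Ω) (hx : x = fun i => algebraMap (MvPolynomial (Fin n) K) Ω (MvPolynomial.X i)) (α : Ω) : α ∈ adjoin K (Set.range x) := by
  obtain ⟨p, q, -, rfl⟩ := IsFractionRing.div_surjective R α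
  have : ∀ p : R, algebraMap (MvPolynomial (Fin n) K) Ω p ∈ adjoin K (Set.range x) := fun p => by
    refine algebra_adjoin_le_adjoin K _ ?_
    rw [Algebra.adjoin_range_eq_range_aeval, hx]
    exact ⟨p, by
      show MvPolynomial.aeval _ p = _
      rw [show (MvPolynomial.aeval (fun i => algebraMap (MvPolynomial (Fin n) K) Ω (MvPolynomial.X i)) : R →ₐ[K] Ω) =
        IsScalarTower.toAlgHom K (MvPolynomial (Fin n) K) Ω from MvPolynomial.algHom_ext fun i => by simp]
      rfl⟩
  exact div_mem (this p) (this q)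

theorem sepClosedIn_x (hK : SepClosedIn k K) (x : Fin n → Ω) (hx : x = fun i => algebraMap (MvPolynomial (Fin n) K) Ω (MvPolynomial.X i)) : SepClosedIn (adjoin k (Set.range x)) Ω := fun α hα =>
  ⟨⟨α, mem_adjoin_range_of_isSeparable x hK (algebraicIndependent_x x hx) (mem_adjoin_x x hx α) hα⟩, rfl⟩

theorem exists_pair (x : Fin n → Ω) (hx : x = fun i => algebraMap (MvPolynomial (Fin n) K) Ω (MvPolynomial.X i)) (g : Fin n → K) (c : Fin n → k) (ξ t : Ω) (hξ : ξ = ∑ i, algebraMap K Ω (g i) * x i) (ht : t = algebraMap K Ω (∑ i, c i • g i)) (hind : AlgebraicIndependent k (Sum.elim x ![ξ, t])) : ∃ i₀ j, c i₀ ≠ 0 ∧ j ≠ i₀ := by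
  classical
  -- a coefficient that does not vanish
  have ht0 : t ≠ 0 := fun h => by
    have := hind.ne_zero (Sum.inr 1)
    simp [h] at this
  obtain ⟨i₀, hi₀⟩ : ∃ i, c i ≠ 0 := by
    by_contra h
    push Not at h
    exact ht0 (by rw [ht]; simp [h])
  obtain ⟨j, hj⟩ : ∃ j, j ≠ i₀ := by
    by_contra h
    push Not at h
    let P : MvPolynomial (Fin n ⊕ Fin 2) k :=
      .C (c i₀) * .X (Sum.inr 0) - .X (Sum.inr 1) * .X (Sum.inl i₀)
    have hP : MvPolynomial.aeval (Sum.elim x ![ξ, t]) P = 0 := by
      have hu : (Finset.univ : Finset (Fin n)) = {i₀} := by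
        ext i; simp [h i]
      simp only [P, map_sub, map_mul, MvPolynomial.aeval_C, MvPolynomial.aeval_X, Sum.elim_inr, Sum.elim_inl,
        Matrix.cons_val_zero, Matrix.cons_val_one]
      rw [hξ, ht, hu, Finset.sum_singleton, Finset.sum_singleton, Algebra.smul_def, map_mul,
        ← IsScalarTower.algebraMap_apply k K]
      ring
    have := congrArg (MvPolynomial.eval (Sum.elim (fun _ => (0 : k)) ![1, 0])) (hind.eq_zero_of_aeval_eq_zero P hP)
    simp [P, hi₀] at this
  exact ⟨i₀, j, hi₀, hj⟩

theorem exists_translations (x : Fin n → Ω) (hx : x = fun i => algebraMap (MvPolynomial (Fin n) K) Ω (MvPolynomial.X i)) (g : Fin n → K) (c : Fin n → k) (ξ t : Ω) (hξ : ξ = ∑ i, algebraMap K Ω (g i) * x i) (ht : t = algebraMap K Ω (∑ i, c i • g i)) (hind : AlgebraicIndependent k (Sum.elim x ![ξ, t])) :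
    ∃ (H : Set (adjoin k (Set.range x))) (τ : adjoin k (Set.range x) → (Ω ≃+* Ω)), H.Infinite ∧
      (∀ h ∈ H, ∀ f, τ h (algebraMap (adjoin k (Set.range x)) Ω f) ∈ Set.range (algebraMap (adjoin k (Set.range x)) Ω)) ∧
      (∀ h ∈ H, ∀ f, (τ h).symm (algebraMap (adjoin k (Set.range x)) Ω f) ∈ Set.range (algebraMap (adjoin k (Set.range x)) Ω)) ∧
      (∀ h ∈ H, τ h ξ = ξ + algebraMap (adjoin k (Set.range x)) Ω h * t) := by
  classical
  let F := adjoin k (Set.range x)
  obtain ⟨i₀, j, hi₀, hj⟩ := exists_pair x hx g c ξ t hξ ht hind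
  -- the translations
  let D : R := .C (algebraMap k K (c i₀)) * .X j - .C (algebraMap k K (c j)) * .X i₀
  let fwd : R → R →ₐ[K] R := fun h => MvPolynomial.aeval fun i => .X i + .C (algebraMap k K (c i)) * h
  have hfD : ∀ h, fwd h D = D := fun h => by
    simp only [fwd, D, map_sub, map_mul, MvPolynomial.aeval_C, MvPolynomial.aeval_X, MvPolynomial.algebraMap_eq]
    ring
  have hinv : ∀ N : ℕ, ∀ s s' : R, s + s' = 0 → (s = D ^ (N + 1) ∨ s = -D ^ (N + 1)) → (fwd s).comp (fwd s') = AlgHom.id K R := by
    intro N s s' hss hs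
    refine MvPolynomial.algHom_ext fun i => ?_
    have hfix : fwd s s' = s' := by
      rw [eq_neg_of_add_eq_zero_right hss]
      rcases hs with rfl | rfl <;> simp [map_pow, hfD]
    rw [AlgHom.comp_apply, AlgHom.id_apply,
      show fwd s' (MvPolynomial.X i) = .X i + .C (algebraMap k K (c i)) * s' from MvPolynomial.aeval_X _ _,
      map_add, map_mul, hfix, show fwd s (MvPolynomial.X i) = .X i + .C (algebraMap k K (c i)) * s from MvPolynomial.aeval_X _ _,
      show fwd s (.C (algebraMap k K (c i))) = .C (algebraMap k K (c i)) from MvPolynomial.aeval_C _ _]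
    linear_combination MvPolynomial.C (algebraMap k K (c i)) * hss
  let e : ℕ → R ≃ₐ[K] R := fun N => AlgEquiv.ofAlgHom (fwd (D ^ (N + 1))) (fwd (-D ^ (N + 1)))
    (hinv N _ _ (add_neg_cancel _) (Or.inl rfl)) (hinv N _ _ (neg_add_cancel _) (Or.inr rfl))
  let T : ℕ → (Ω ≃+* Ω) := fun N => IsFractionRing.ringEquivOfRingEquiv (e N).toRingEquiv
  have hT : ∀ N p, T N (algebraMap (MvPolynomial (Fin n) K) Ω p) = algebraMap (MvPolynomial (Fin n) K) Ω (fwd (D ^ (N + 1)) p) := fun N p =>
    IsFractionRing.ringEquivOfRingEquiv_algebraMap (e N).toRingEquiv p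
  have hT' : ∀ N p, (T N).symm (algebraMap (MvPolynomial (Fin n) K) Ω p) = algebraMap (MvPolynomial (Fin n) K) Ω (fwd (-D ^ (N + 1)) p) := fun N p => by
    rw [RingEquiv.symm_apply_eq, hT, ← AlgHom.comp_apply, hinv N _ _ (add_neg_cancel _) (Or.inl rfl)]
    rfl
  have hxF : ∀ i, algebraMap (MvPolynomial (Fin n) K) Ω (MvPolynomial.X i) ∈ F := fun i => subset_adjoin _ _ ⟨i, by rw [hx]⟩
  have hCF : ∀ a : k, algebraMap (MvPolynomial (Fin n) K) Ω (MvPolynomial.C (algebraMap k K a)) ∈ F := fun a => by
    rw [← MvPolynomial.algebraMap_eq, ← IsScalarTower.algebraMap_apply, ← IsScalarTower.algebraMap_apply]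
    exact F.algebraMap_mem a
  have hDF : algebraMap (MvPolynomial (Fin n) K) Ω D ∈ F := by
    simp only [D, map_sub, map_mul]
    exact sub_mem (mul_mem (hCF _) (hxF _)) (mul_mem (hCF _) (hxF _))
  let hN : ℕ → F := fun N => ⟨algebraMap (MvPolynomial (Fin n) K) Ω D, hDF⟩ ^ (N + 1)
  have hhN : ∀ N, ((hN N : F) : Ω) = algebraMap (MvPolynomial (Fin n) K) Ω (D ^ (N + 1)) := fun N => by
    simp [hN, map_pow]
  have hinjN : Function.Injective hN := by
    intro N N' h
    have h1 : algebraMap (MvPolynomial (Fin n) K) Ω (D ^ (N + 1)) = algebraMap (MvPolynomial (Fin n) K) Ω (D ^ (N' + 1)) := by rw [← hhN, ← hhN, h]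
    have h2 := congrArg (MvPolynomial.aeval (S₁ := Polynomial K) fun i => if i = j then Polynomial.X else 0)
      (IsFractionRing.injective (MvPolynomial (Fin n) K) Ω h1)
    have hD : (MvPolynomial.aeval (S₁ := Polynomial K) fun i => if i = j then Polynomial.X else 0) D =
        Polynomial.C (algebraMap k K (c i₀)) * Polynomial.X := by
      simp [D, hj.symm]
    rw [map_pow, map_pow, hD] at h2
    have h3 := congrArg Polynomial.natDegree h2
    rw [Polynomial.natDegree_pow, Polynomial.natDegree_pow, Polynomial.natDegree_C_mul_X _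
      ((map_ne_zero _).2 hi₀)] at h3
    omega
  let τ : F → (Ω ≃+* Ω) := fun h => T (Function.invFun hN h)
  have hτ : ∀ h ∈ Set.range hN, ∃ N, hN N = h ∧ τ h = T N := by
    rintro _ ⟨N, rfl⟩
    exact ⟨N, rfl, congrArg T (Function.leftInverse_invFun hinjN N)⟩
  have hpres : ∀ (φ : Ω ≃+* Ω) (s : R), algebraMap (MvPolynomial (Fin n) K) Ω s ∈ F →
      (∀ p, φ (algebraMap (MvPolynomial (Fin n) K) Ω p) = algebraMap (MvPolynomial (Fin n) K) Ω (fwd s p)) → ∀ f : F, φ f ∈ Set.range (algebraMap F Ω) := by
    intro φ s hs hφ f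
    refine ⟨⟨φ f, ?_⟩, rfl⟩
    obtain ⟨f, hf⟩ := f
    induction hf using adjoin_induction with
    | mem z hz =>
      obtain ⟨i, rfl⟩ := hz
      show φ (x i) ∈ F
      rw [hx, hφ, show fwd s (MvPolynomial.X i) = .X i + .C (algebraMap k K (c i)) * s from MvPolynomial.aeval_X _ _,
        map_add, map_mul]
      exact add_mem (hxF i) (mul_mem (hCF _) hs)
    | algebraMap a =>
      show φ (algebraMap k Ω a) ∈ F
      rw [IsScalarTower.algebraMap_apply k (MvPolynomial (Fin n) K) Ω, hφ, IsScalarTower.algebraMap_apply k K R,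
        show fwd s (algebraMap K R (algebraMap k K a)) = algebraMap K R (algebraMap k K a) from (fwd s).commutes _,
        MvPolynomial.algebraMap_eq]
      exact hCF a
    | add z w _ _ hz hw => rw [map_add]; exact add_mem hz hw
    | inv z _ hz => rw [map_inv₀]; exact inv_mem hz
    | mul z w _ _ hz hw => rw [map_mul]; exact mul_mem hz hw
  refine ⟨Set.range hN, τ, Set.infinite_range_of_injective hinjN, ?_, ?_, ?_⟩
  · intro h hh f
    obtain ⟨N, -, hN'⟩ := hτ h hh
    rw [hN']
    exact hpres (T N) (D ^ (N + 1)) (by rw [map_pow]; exact pow_mem hDF _) (hT N) f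
  · intro h hh f
    obtain ⟨N, -, hN'⟩ := hτ h hh
    rw [hN']
    exact hpres (T N).symm (-D ^ (N + 1)) (by rw [map_neg, map_pow]; exact neg_mem (pow_mem hDF _)) (hT' N) f
  · intro h hh
    obtain ⟨N, rfl, hN'⟩ := hτ h hh
    rw [hN', show algebraMap F Ω (hN N) = algebraMap (MvPolynomial (Fin n) K) Ω (D ^ (N + 1)) from hhN N]
    have hξR : ξ = algebraMap (MvPolynomial (Fin n) K) Ω (∑ i, MvPolynomial.C (g i) * MvPolynomial.X i) := by
      rw [hξ, hx, map_sum]
      refine Finset.sum_congr rfl fun i _ => ?_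
      rw [map_mul, ← MvPolynomial.algebraMap_eq, ← IsScalarTower.algebraMap_apply]
    have htR : t = algebraMap (MvPolynomial (Fin n) K) Ω (∑ i, MvPolynomial.C (algebraMap k K (c i)) * MvPolynomial.C (g i)) := by
      rw [ht, IsScalarTower.algebraMap_apply K (MvPolynomial (Fin n) K) Ω, MvPolynomial.algebraMap_eq, map_sum]
      congr 1
      refine Finset.sum_congr rfl fun i _ => ?_
      rw [Algebra.smul_def, map_mul]
    rw [hξR, htR, hT, ← map_mul, ← map_add]
    congr 1
    rw [map_sum, Finset.mul_sum, ← Finset.sum_add_distrib]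
    refine Finset.sum_congr rfl fun i _ => ?_
    rw [map_mul, show fwd (D ^ (N + 1)) (MvPolynomial.X i) = .X i + .C (algebraMap k K (c i)) * D ^ (N + 1)
      from MvPolynomial.aeval_X _ _, show fwd (D ^ (N + 1)) (.C (g i)) = .C (g i) from MvPolynomial.aeval_C _ _]
    ring

theorem main [Algebra.EssFiniteType k K] (hK : SepClosedIn k K) (x : Fin n → Ω) (hx : x = fun i => algebraMap (MvPolynomial (Fin n) K) Ω (MvPolynomial.X i)) (g : Fin n → K) (c : Fin n → k) (ξ t : Ω) (hξ : ξ = ∑ i, algebraMap K Ω (g i) * x i) (ht : t = algebraMap K Ω (∑ i, c i • g i)) (hind : AlgebraicIndependent k (Sum.elim x ![ξ, t])) :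
    SepClosedIn (adjoin k (Set.range x ∪ {ξ})) Ω := by
  let F := adjoin k (Set.range x)
  haveI : Algebra.EssFiniteType k Ω := by
    haveI : Algebra.EssFiniteType (MvPolynomial (Fin n) K) Ω := Algebra.EssFiniteType.of_isLocalization Ω (nonZeroDivisors R)
    haveI : Algebra.EssFiniteType k R := Algebra.EssFiniteType.comp k K R
    exact Algebra.EssFiniteType.comp k (MvPolynomial (Fin n) K) Ω
  haveI : Algebra.EssFiniteType F Ω := Algebra.EssFiniteType.of_comp k F Ω
  have hindF : AlgebraicIndependent F ![ξ, t] := by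
    rw [IntermediateField.algebraicIndependent_adjoin_iff]
    have : AlgebraicIndependent k (Sum.elim ![ξ, t] x) := by
      convert! hind.comp Sum.swap Sum.swap_leftInverse.injective using 1
      ext (i | i) <;> rfl
    exact (AlgebraicIndependent.sumElim_iff.1 this).2
  obtain ⟨H, τ, hH, h1, h2, h3⟩ := exists_translations x hx g c ξ t hξ ht hind
  have hc := core (sepClosedIn_x hK x hx) ξ t hindF H hH τ h1 h2 h3
  -- transfer
  intro α hα
  have hL : adjoin k (Set.range x ∪ {ξ}) = (adjoin F {ξ}).restrictScalars k := (adjoin_adjoin_left k _ _).symm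
  have hα' : IsSeparable (adjoin F {ξ}) α :=
    isSeparable_map (Subfield.inclusion (le_of_eq (congrArg IntermediateField.toSubfield hL) :
      (adjoin k (Set.range x ∪ {ξ})).toSubfield ≤ (adjoin F {ξ}).toSubfield)) (RingHom.id Ω) (fun _ => rfl) hα
  obtain ⟨⟨l, hl⟩, rfl⟩ := hc α hα'
  exact ⟨⟨l, by rw [hL]; exact hl⟩, rfl⟩

theorem geometricallyIrreducible {k K : Type u} [Field k] [Field K] [Algebra k K]
    (hfg : (⊤ : IntermediateField k K).FG)
    [GeometricallyIrreducible (Spec.map (CommRingCat.ofHom (algebraMap k K)))]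
    {n : ℕ} (g : Fin n → K) (c : Fin n → k)
    (x : Fin n → FractionRing (MvPolynomial (Fin n) K))
    (hx : x = fun i => algebraMap (MvPolynomial (Fin n) K) _ (MvPolynomial.X i))
    (ξ t : FractionRing (MvPolynomial (Fin n) K))
    (hξ : ξ = ∑ i, algebraMap K _ (g i) * x i) (ht : t = algebraMap K _ (∑ i, c i • g i))
    (hind : AlgebraicIndependent k (Sum.elim x ![ξ, t])) :
    GeometricallyIrreducible (Spec.map (CommRingCat.ofHom (algebraMap
      (adjoin k (Set.range x ∪ {ξ})) (FractionRing (MvPolynomial (Fin n) K))))) := by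
  haveI : Algebra.EssFiniteType k K := IntermediateField.fg_top_iff.1 hfg
  exact GeomConn5.geometricallyIrreducible_spec_field _ _
    (main sepClosedIn_of_geometricallyIrreducible x hx g c ξ t hξ ht hind)

end Groth.Agent.FieldBertini
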