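import Mathlib

/-!
# Relative separable closedness is stable under purely transcendental extensions
-/

set_option autoImplicit false
set_option linter.style.haveILetI false

open IntermediateField

namespace Groth.Agent.FieldBertini

universe u

/-- `k` is separably closed in `K`. -/
def SepClosedIn (k K : Type*) [Field k] [Field K] [Algebra k K] : Prop :=
  ∀ a : K, IsSeparable k a → a ∈ Set.range (algebraMap k K)

theorem mem_perfectClosure_of_isAlgebraic {k K : Type*} [Field k] [Field K] [Algebra k K]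
    (hK : SepClosedIn k K) {c : K} (hc : IsAlgebraic k c) : c ∈ perfectClosure k K := by
  obtain ⟨g, hg, n, hn⟩ := (minpoly.irreducible hc.isIntegral).hasSeparableContraction (ringExpChar k)
  rw [mem_perfectClosure_iff]
  refine ⟨n, ?_⟩
  have h0 : Polynomial.aeval (c ^ (ringExpChar k) ^ n) g = 0 := by
    rw [← Polynomial.expand_aeval, hn, minpoly.aeval]
  exact hK _ (Polynomial.Separable.of_dvd hg (minpoly.dvd k _ h0))

variable {k E Ω : Type*} [Field k] [Field E] [Field Ω] [Algebra k E] [Algebra k Ω] [Algebra E Ω]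
  [IsScalarTower k E Ω] {ι : Type*} (y : ι → Ω)

theorem mem_adjoin_range_of_isSeparable (hE : SepClosedIn k E) (hy : AlgebraicIndependent E y) {α : Ω}
    (hα : α ∈ adjoin E (Set.range y)) (hs : IsSeparable (adjoin k (Set.range y)) α) :
    α ∈ adjoin k (Set.range y) := by
  set F := adjoin k (Set.range y) with hF
  -- it suffices to show that `α` lies in the perfect closure of `F`
  suffices hp : α ∈ perfectClosure F Ω by
    have : α ∈ separableClosure F Ω ⊓ perfectClosure F Ω := ⟨mem_separableClosure_iff.2 hs, hp⟩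
    rw [separableClosure_inf_perfectClosure, IntermediateField.mem_bot] at this
    obtain ⟨z, rfl⟩ := this
    exact z.2
  let A := Algebra.adjoin k (Set.range y)
  have halg : IsAlgebraic A α := IntermediateField.isAlgebraic_adjoin_iff.1 hs.isIntegral.isAlgebraic
  obtain ⟨d, hd0, hd⟩ := halg.exists_integral_multiple
  have hdF : (d : Ω) ∈ F := algebra_adjoin_le_adjoin k _ d.2
  -- lift to `MvPolynomial`
  let φ : MvPolynomial ι E →ₐ[E] Ω := MvPolynomial.aeval y
  have hinj : Function.Injective φ := hy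
  obtain ⟨r, s, hrs⟩ := (IntermediateField.mem_adjoin_range_iff (F := E) y α).1 hα
  obtain ⟨D, hD⟩ : ∃ D : MvPolynomial ι k, MvPolynomial.aeval y D = (d : Ω) := by
    rw [← AlgHom.mem_range, ← Algebra.adjoin_range_eq_range_aeval]
    exact d.2
  -- `d α` is integral over the polynomial ring over `k`
  let ψ : MvPolynomial ι k →+* MvPolynomial ι E := MvPolynomial.map (algebraMap k E)
  have hψ : ∀ P, φ (ψ P) = MvPolynomial.aeval y P := fun P => MvPolynomial.aeval_map_algebraMap _ _ _
  letI : Algebra (MvPolynomial ι k) Ω := (MvPolynomial.aeval y : MvPolynomial ι k →ₐ[k] Ω).toRingHom.toAlgebra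
  have hint : IsIntegral (MvPolynomial ι k) ((d : Ω) * α) := by
    obtain ⟨P, hPm, hP⟩ := hd
    have hsur : Function.Surjective
        ((MvPolynomial.aeval y : MvPolynomial ι k →ₐ[k] Ω).rangeRestrict) := AlgHom.rangeRestrict_surjective _
    have hl : P ∈ Polynomial.lifts (((Subalgebra.equivOfEq _ _
        (Algebra.adjoin_range_eq_range_aeval k y).symm).toAlgHom.comp
          (MvPolynomial.aeval y : MvPolynomial ι k →ₐ[k] Ω).rangeRestrict).toRingHom) := by
      rw [Polynomial.lifts_iff_coeff_lifts]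
      exact fun n => ((Subalgebra.equivOfEq _ _ (Algebra.adjoin_range_eq_range_aeval k y).symm).surjective.comp hsur) _
    obtain ⟨Q, hQ, -, hQm⟩ := Polynomial.lifts_and_degree_eq_and_monic hl hPm
    refine ⟨Q, hQm, ?_⟩
    rw [← hQ, Polynomial.eval₂_map] at hP
    exact hP
  -- hence it is a polynomial over `E` (integrally closed)
  letI : Algebra (MvPolynomial ι E) (adjoin E (Set.range y)) :=
    ((MvPolynomial.aeval fun i => (⟨y i, subset_adjoin _ _ ⟨i, rfl⟩⟩ : adjoin E (Set.range y))) :
      MvPolynomial ι E →ₐ[E] _).toRingHom.toAlgebra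
  have hval : ∀ P : MvPolynomial ι E, ((algebraMap _ (adjoin E (Set.range y)) P : adjoin E (Set.range y)) : Ω) = φ P := by
    intro P
    show (adjoin E (Set.range y)).val _ = _
    rw [RingHom.algebraMap_toAlgebra]
    exact MvPolynomial.comp_aeval_apply _ _ _
  haveI : FaithfulSMul (MvPolynomial ι E) (adjoin E (Set.range y)) :=
    (faithfulSMul_iff_algebraMap_injective _ _).2 fun P Q h => hinj (by rw [← hval, ← hval, h])
  haveI : IsFractionRing (MvPolynomial ι E) (adjoin E (Set.range y)) := by
    refine IsFractionRing.of_field _ _ fun z => ?_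
    obtain ⟨a, b, hab⟩ := (IntermediateField.mem_adjoin_range_iff (F := E) y (z : Ω)).1 z.2
    refine ⟨a, b, Subtype.ext ?_⟩
    rw [IntermediateField.coe_div, hval, hval]
    exact hab
  let β : adjoin E (Set.range y) := ⟨(d : Ω) * α, mul_mem (by
    rw [← hD, ← hψ]
    exact hval (ψ D) ▸ Subtype.prop _) hα⟩
  have hβ : IsIntegral (MvPolynomial ι E) β := by
    obtain ⟨Q, hQm, hQ⟩ := hint
    refine ⟨Q.map ψ, hQm.map _, Subtype.ext ?_⟩
    rw [Polynomial.eval₂_map]
    show (adjoin E (Set.range y)).val.toRingHom _ = _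
    rw [Polynomial.hom_eval₂]
    refine Eq.trans ?_ (hQ.trans (ZeroMemClass.coe_zero _).symm)
    congr 1
    exact RingHom.ext fun P => (hval _).trans (hψ P)
  obtain ⟨P, hP⟩ := IsIntegrallyClosed.isIntegral_iff.1 hβ
  have hPβ : φ P = (d : Ω) * α := (hval P).symm.trans (congrArg Subtype.val hP)
  -- whose coefficients are algebraic over `k`
  letI : Algebra (MvPolynomial ι k) (MvPolynomial ι E) := ψ.toAlgebra
  have hPint : IsIntegral (MvPolynomial ι k) P := by
    obtain ⟨Q, hQm, hQ⟩ := hint
    refine ⟨Q, hQm, hinj ?_⟩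
    rw [map_zero]
    show φ.toRingHom _ = _
    rw [Polynomial.hom_eval₂]
    refine Eq.trans ?_ hQ
    show Polynomial.eval₂ _ (φ P) Q = _
    rw [hPβ]
    congr 1
    exact RingHom.ext hψ
  have hcoeff : ∀ m, algebraMap E Ω (P.coeff m) ∈ perfectClosure F Ω := fun m => by
    have hc : IsIntegral k (P.coeff m) := MvPolynomial.isIntegral_iff_isIntegral_coeff.1 hPint m
    obtain ⟨n, z, hz⟩ := mem_perfectClosure_iff.1 (mem_perfectClosure_of_isAlgebraic hE hc.isAlgebraic)
    rw [mem_perfectClosure_iff, ringExpChar.eq F (ringExpChar k)]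
    refine ⟨n, algebraMap k F z, ?_⟩
    rw [← map_pow, ← hz, ← IsScalarTower.algebraMap_apply k F Ω, IsScalarTower.algebraMap_apply k E Ω]
  have hyi : ∀ i, y i ∈ perfectClosure F Ω := fun i =>
    (perfectClosure F Ω).algebraMap_mem (⟨y i, subset_adjoin _ _ ⟨i, rfl⟩⟩ : F)
  have hmem : (d : Ω) * α ∈ perfectClosure F Ω := by
    rw [← hPβ]
    show MvPolynomial.aeval y P ∈ _
    rw [MvPolynomial.aeval_def, MvPolynomial.eval₂_eq]
    exact sum_mem fun m _ => mul_mem (hcoeff m) (prod_mem fun i _ => pow_mem (hyi i) _)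
  have hd0' : (d : Ω) ≠ 0 := fun h => hd0 (Subtype.ext h)
  rw [show α = (d : Ω)⁻¹ * ((d : Ω) * α) by rw [inv_mul_cancel_left₀ hd0']]
  exact mul_mem (inv_mem ((perfectClosure F Ω).algebraMap_mem (⟨d, hdF⟩ : F))) hmem

end Groth.Agent.FieldBertini
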